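import Groth.Prelude.Def_CAlgX
import Mathlib.RingTheory.Flat.EquationalCriterion
import Mathlib.RingTheory.Filtration
import Mathlib.RingTheory.LocalRing.ResidueField.Fiber
import Mathlib.RingTheory.LocalRing.MaximalIdeal.Basic
import Mathlib.LinearAlgebra.Finsupp.LinearCombination

/-!
# Flat maps with formally smooth closed fibre are formally smooth
-/

universe u

open IsLocalRing TensorProduct

namespace Groth.Agent.AdicFlat

variable {A B : Type u} [CommRing A] [IsLocalRing A] [CommRing B] [IsLocalRing B] [Algebra A B]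

/-- Lifting maps into algebras killed by the maximal ideal of the base. -/
theorem exists_lift_of_fibre [IsLocalRing ((maximalIdeal A).Fiber B)]
    (h : CAlgX.IsAdicFormallySmooth (maximalIdeal A).ResidueField ((maximalIdeal A).Fiber B)
      (maximalIdeal ((maximalIdeal A).Fiber B)))
    (G : Type u) [CommRing G] [Algebra A G] (hG : ∀ a ∈ maximalIdeal A, algebraMap A G a = 0) (N : Ideal G)
    (hN : N ^ 2 = ⊥) (ψ : B →ₐ[A] G ⧸ N) {n : ℕ} (hψ : ∀ x ∈ maximalIdeal B ^ n, ψ x = 0) :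
    ∃ χ : B →ₐ[A] G, (Ideal.Quotient.mkₐ A N).comp χ = ψ := by
  let κ := (maximalIdeal A).ResidueField
  let S := (maximalIdeal A).Fiber B
  have hsurj : Function.Surjective (algebraMap A κ) := Ideal.algebraMap_residueField_surjective _
  let σ : κ →+* G := RingHom.liftOfSurjective (algebraMap A κ) hsurj ⟨algebraMap A G, fun a ha =>
    hG a (Ideal.algebraMap_residueField_eq_zero.mp ha)⟩
  let _ : Algebra κ G := σ.toAlgebra
  have : IsScalarTower A κ G := IsScalarTower.of_algebraMap_eq fun a =>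
    (RingHom.liftOfRightInverse_comp_apply (algebraMap A κ) _ (Function.rightInverse_surjInv hsurj) ⟨algebraMap A G,
      fun a ha => hG a (Ideal.algebraMap_residueField_eq_zero.mp ha)⟩ a).symm
  let r : B →+* S := (Algebra.TensorProduct.includeRight : B →ₐ[A] κ ⊗[A] B).toRingHom
  have hr : Function.Surjective r := fun x => by
    induction x using TensorProduct.induction_on with
    | zero => exact ⟨0, map_zero r⟩
    | add x y hx hy =>
      obtain ⟨a, rfl⟩ := hx
      obtain ⟨b, rfl⟩ := hy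
      exact ⟨a + b, map_add r a b⟩
    | tmul c b =>
      obtain ⟨a, rfl⟩ := hsurj c
      refine ⟨a • b, ?_⟩
      show (1 : κ) ⊗ₜ[A] (a • b) = _
      rw [← TensorProduct.smul_tmul, ← Algebra.algebraMap_eq_smul_one]
  let u : S →ₐ[κ] G ⧸ N := Algebra.TensorProduct.lift (Algebra.ofId κ (G ⧸ N)) ψ fun _ _ => Commute.all _ _
  have hu : ∀ b, u (r b) = ψ b := fun b => (Algebra.TensorProduct.lift_tmul _ _ _ 1 b).trans (by rw [map_one, one_mul])
  obtain ⟨v, hv⟩ := h G N hN u ⟨n, fun x hx => by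
    have hloc : IsLocalHom r := .of_surjective r hr
    rw [← IsLocalRing.map_maximalIdeal_of_surjective r hr, ← Ideal.map_pow,
      Ideal.mem_map_iff_of_surjective r hr] at hx
    obtain ⟨b, hb, rfl⟩ := hx
    rw [hu, hψ b hb]⟩
  refine ⟨(v.restrictScalars A).comp (Algebra.TensorProduct.includeRight : B →ₐ[A] κ ⊗[A] B), AlgHom.ext fun b => ?_⟩
  exact (AlgHom.congr_fun hv (r b)).trans (hu b)

variable [IsNoetherianRing B] [Module.Flat A B]

omit [IsLocalRing A] in
theorem map_mk_sq_eq_bot {S : Type u} [CommRing S] (T K : Ideal S) (h : ∀ x ∈ K, ∀ y ∈ K, x * y ∈ T) :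
    (K.map (Ideal.Quotient.mk T)) ^ 2 = ⊥ := by
  rw [← Ideal.map_pow, Ideal.map_eq_bot_iff_le_ker, Ideal.mk_ker, pow_two, Ideal.mul_le]
  exact h

theorem exists_power {E : Type u} [CommRing E] [Algebra A E] (N : Ideal E)
    (hNN : ∀ x ∈ N, ∀ y ∈ N, x * y = 0) (hmN : ∀ a ∈ maximalIdeal A, ∀ x ∈ N, algebraMap A E a * x = 0)
    (ψ : B →ₐ[A] E ⧸ N) {n : ℕ} (hn : ∀ x ∈ maximalIdeal B ^ n, ψ x = 0) (E' : Subalgebra A (B × E))
    (hmem : ∀ z : B × E, z ∈ E' ↔ ψ z.1 = Ideal.Quotient.mk N z.2) (fstE : E' →ₐ[A] B)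
    (hfstE : ∀ z : E', fstE z = (z : B × E).1) (hfst : Function.Surjective fstE) :
    ∃ M : ℕ, ∀ z ∈ (maximalIdeal A).map (algebraMap A E') ⊔ (maximalIdeal B).comap fstE.toRingHom ^ M,
      (z : B × E).1 = 0 → z = 0 := by
  classical
  let 𝔐 : Ideal E' := (maximalIdeal B).comap fstE.toRingHom
  have hMn : ∀ z ∈ 𝔐 ^ n, (z : B × E).2 ∈ N := fun z hz => by
    have h1 : fstE z ∈ maximalIdeal B ^ n := Ideal.le_comap_pow fstE.toRingHom n hz
    rw [hfstE] at h1
    have h2 := (hmem _).mp z.2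
    rwa [hn _ h1, eq_comm, Ideal.Quotient.eq_zero_iff_mem] at h2
  obtain ⟨k, hk⟩ := Ideal.exists_pow_inf_eq_pow_smul (maximalIdeal B) (M := B)
    ((maximalIdeal A).map (algebraMap A B) : Ideal B)
  refine ⟨2 * n + k, ?_⟩
  let M := 2 * n + k
  let T : Ideal E' := (maximalIdeal A).map (algebraMap A E') ⊔ 𝔐 ^ M
  -- elements of `m E'` over zero vanish
  have hzero : ∀ z ∈ (maximalIdeal A).map (algebraMap A E'), (z : B × E).1 = 0 → z = 0 := by
    intro z hz hz1
    rw [Ideal.map, Ideal.span, Submodule.mem_span_set'] at hz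
    obtain ⟨l, w, g, rfl⟩ := hz
    choose a ha hag using fun i => (g i).2
    have hsum : ∀ i, (w i • (g i : E') : E') = algebraMap A E' (a i) * w i := fun i => by
      rw [smul_eq_mul, hag, mul_comm]
    simp only [hsum] at hz1 ⊢
    have hrel : ∑ i, a i • (w i : B × E).1 = 0 := by
      rw [← hz1]
      simp [Algebra.smul_def, Prod.fst_sum, AddSubmonoidClass.coe_finset_sum]
    obtain ⟨q, c, y, hwy₀, hac⟩ := Module.Flat.iff_forall_isTrivialRelation.mp ‹_› hrel
    have hwy : ∀ i, (w i : B × E).1 = ∑ j, c i j • y j := hwy₀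
    choose e he using fun j => Ideal.Quotient.mk_surjective (I := N) (ψ (y j))
    have hd : ∀ i, (w i : B × E).2 - ∑ j, c i j • e j ∈ N := fun i => by
      rw [← Ideal.Quotient.eq_zero_iff_mem, map_sub, ← (hmem _).mp (w i).2, map_sum, hwy i, map_sum, sub_eq_zero]
      refine Finset.sum_congr rfl fun j _ => ?_
      rw [map_smul, ← he j]
      exact (map_smul (Ideal.Quotient.mkₐ A N) (c i j) (e j)).symm
    have hsnd : ∑ i, a i • (w i : B × E).2 = 0 := by
      have h1 : ∑ i, a i • (w i : B × E).2 = ∑ i, a i • ((w i : B × E).2 - ∑ j, c i j • e j) +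
          ∑ j, (∑ i, a i * c i j) • e j := by
        simp only [Finset.sum_smul, mul_smul, smul_sub, Finset.smul_sum, Finset.sum_sub_distrib]
        rw [Finset.sum_comm (f := fun j i => a i • c i j • e j), sub_add_cancel]
      rw [h1]
      simp only [hac, zero_smul, Finset.sum_const_zero, add_zero]
      refine Finset.sum_eq_zero fun i _ => ?_
      rw [Algebra.smul_def]
      exact hmN _ (ha i) _ (hd i)
    refine Subtype.ext (Prod.ext hz1 ?_)
    rw [show ((0 : E') : B × E).2 = 0 from rfl, ← hsnd]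
    simp [Algebra.smul_def, Prod.snd_sum, AddSubmonoidClass.coe_finset_sum]
  intro z hz hz1
  obtain ⟨u, hu, v, hv, rfl⟩ := Submodule.mem_sup.mp hz
  have hv2 : (v : B × E).2 = 0 := by
    have hle : 𝔐 ^ M ≤ 𝔐 ^ n * 𝔐 ^ n := by rw [← pow_add]; exact Ideal.pow_le_pow_right (by omega)
    refine Submodule.mul_induction_on (hle hv) (fun x hx y hy => hNN _ (hMn x hx) _ (hMn y hy)) fun x y hx hy => ?_
    show (x : B × E).2 + (y : B × E).2 = 0
    rw [hx, hy, add_zero]
  -- `(v.1, 0)` lies in `m E'`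
  let S : Ideal B :=
    { carrier := {c | ∃ hc : (c, (0 : E)) ∈ E', (⟨(c, 0), hc⟩ : E') ∈ (maximalIdeal A).map (algebraMap A E')}
      zero_mem' := ⟨E'.zero_mem, Ideal.zero_mem _⟩
      add_mem' := by
        rintro c d ⟨hc, hc'⟩ ⟨hd, hd'⟩
        have h : ((c, 0) : B × E) + (d, 0) = (c + d, 0) := by simp
        refine ⟨h ▸ E'.add_mem hc hd, ?_⟩
        have e : (⟨(c + d, 0), h ▸ E'.add_mem hc hd⟩ : E') = ⟨(c, 0), hc⟩ + ⟨(d, 0), hd⟩ := Subtype.ext h.symm
        rw [e]
        exact Ideal.add_mem _ hc' hd'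
      smul_mem' := by
        rintro b c ⟨hc, hc'⟩
        obtain ⟨e, he⟩ := hfst b
        have h : (e : B × E) * (c, 0) = (b • c, 0) := by
          refine Prod.ext ?_ (mul_zero _)
          show (e : B × E).1 * c = b * c
          rw [← hfstE, he]
        refine ⟨h ▸ E'.mul_mem e.2 hc, ?_⟩
        have e' : (⟨(b • c, 0), h ▸ E'.mul_mem e.2 hc⟩ : E') = e * ⟨(c, 0), hc⟩ := Subtype.ext h.symm
        rw [e']
        exact Ideal.mul_mem_left _ _ hc' }
  have hS : maximalIdeal B ^ (2 * n) * (maximalIdeal A).map (algebraMap A B) ≤ S := by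
    rw [Ideal.map, Ideal.span, mul_comm]
    refine Ideal.mul_le.mpr fun y hy c hc => ?_
    induction hy using Submodule.span_induction with
    | mem y hy =>
      obtain ⟨a, ha, rfl⟩ := hy
      have hc0 : (c, (0 : E)) ∈ E' := (hmem _).mpr (by
        rw [hn c (Ideal.pow_le_pow_right (by omega) hc), map_zero])
      have h : algebraMap A (B × E) a * (c, 0) = (algebraMap A B a * c, 0) := Prod.ext rfl (mul_zero _)
      refine ⟨h ▸ E'.mul_mem (E'.algebraMap_mem a) hc0, ?_⟩
      have e' : (⟨(algebraMap A B a * c, 0), h ▸ E'.mul_mem (E'.algebraMap_mem a) hc0⟩ : E') =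
          algebraMap A E' a * ⟨(c, 0), hc0⟩ := Subtype.ext h.symm
      rw [e']
      exact Ideal.mul_mem_right _ _ (Ideal.mem_map_of_mem _ ha)
    | zero => rw [zero_mul]; exact S.zero_mem
    | add x y _ _ hx hy => rw [add_mul]; exact S.add_mem hx hy
    | smul b x _ hx => rw [smul_eq_mul, mul_assoc]; exact S.mul_mem_left _ hx
  have hv1 : (v : B × E).1 ∈ S := by
    have hu1 : (u : B × E).1 ∈ (maximalIdeal A).map (algebraMap A B) := by
      rw [← hfstE]
      have := Ideal.mem_map_of_mem fstE.toRingHom hu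
      rwa [Ideal.map_map, show fstE.toRingHom.comp (algebraMap A E') = algebraMap A B from fstE.comp_algebraMap] at this
    have hv1' : (v : B × E).1 ∈ maximalIdeal B ^ M := hfstE v ▸ Ideal.le_comap_pow fstE.toRingHom M hv
    have hsum : (u : B × E).1 + (v : B × E).1 = 0 := hz1
    refine hS (?_ : (v : B × E).1 ∈ _)
    have hinf : (v : B × E).1 ∈ (maximalIdeal B ^ M • ⊤ ⊓ (maximalIdeal A).map (algebraMap A B) : Submodule B B) := by
      refine ⟨by rw [smul_eq_mul, Ideal.mul_top]; exact hv1', ?_⟩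
      rw [eq_neg_of_add_eq_zero_right hsum]
      exact neg_mem hu1
    rw [hk M (by omega), show M - k = 2 * n by omega] at hinf
    exact Ideal.mul_mono_right inf_le_right hinf
  obtain ⟨hv0, hv0'⟩ := hv1
  have hveq : (⟨((v : B × E).1, 0), hv0⟩ : E') = v := Subtype.ext (Prod.ext rfl hv2.symm)
  rw [hveq] at hv0'
  exact hzero _ (Ideal.add_mem _ hu hv0') hz1

omit [IsNoetherianRing B] [Module.Flat A B] in
/-- Sections of square-zero extensions of `B` from lifts of maps into algebras killed by `m_A`. -/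
theorem exists_section
    (hlift : ∀ (G : Type u) [CommRing G] [Algebra A G], (∀ a ∈ maximalIdeal A, algebraMap A G a = 0) →
      ∀ N : Ideal G, N ^ 2 = ⊥ → ∀ ψ : B →ₐ[A] G ⧸ N, (∃ n : ℕ, ∀ x ∈ maximalIdeal B ^ n, ψ x = 0) →
        ∃ χ : B →ₐ[A] G, (Ideal.Quotient.mkₐ A N).comp χ = ψ)
    {P : Type u} [CommRing P] [Algebra A P] (f : P →ₐ[A] B) (hf : Function.Surjective f) (T : Ideal P)
    (hmT : ∀ a ∈ maximalIdeal A, algebraMap A P a ∈ T)
    (hK : ∀ x y : P, f x = 0 → f y = 0 → x * y ∈ T)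
    (hT : ∀ z ∈ T, f z = 0 → z = 0) {M : ℕ} (hM : (maximalIdeal B).comap f.toRingHom ^ M ≤ T) :
    ∃ χ : B →ₐ[A] P, ∀ b, f (χ b) = b := by
  let K := RingHom.ker f
  let Ng : Ideal (P ⧸ T) := K.map (Ideal.Quotient.mk T)
  have hNg : Ng ^ 2 = ⊥ := map_mk_sq_eq_bot T K fun x hx y hy => hK x y hx hy
  let π₀ : P →ₐ[A] (P ⧸ T) ⧸ Ng := (Ideal.Quotient.mkₐ A Ng).comp (Ideal.Quotient.mkₐ A T)
  have hπ₀ : ∀ z ∈ RingHom.ker f, π₀ z = 0 := fun z hz =>
    Ideal.Quotient.eq_zero_iff_mem.mpr (Ideal.mem_map_of_mem _ hz)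
  let e₀ := Ideal.quotientKerAlgEquivOfSurjective (f := f) hf
  let ψ₀ : B →ₐ[A] (P ⧸ T) ⧸ Ng := (Ideal.Quotient.liftₐ (RingHom.ker f) π₀ hπ₀).comp e₀.symm.toAlgHom
  have hψ₀ : ∀ z, ψ₀ (f z) = π₀ z := fun z => by
    show Ideal.Quotient.liftₐ (RingHom.ker f) π₀ hπ₀ (e₀.symm (f z)) = _
    rw [show f z = e₀ (Ideal.Quotient.mk _ z) from rfl, e₀.symm_apply_apply]
    rfl
  obtain ⟨s, hs⟩ := hlift (P ⧸ T) (fun a ha => Ideal.Quotient.eq_zero_iff_mem.mpr (hmT a ha)) Ng hNg ψ₀
    ⟨M, fun x hx => by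
      rw [← Ideal.map_comap_of_surjective f.toRingHom hf (maximalIdeal B), ← Ideal.map_pow,
        Ideal.mem_map_iff_of_surjective f.toRingHom hf] at hx
      obtain ⟨z, hz, rfl⟩ := hx
      show ψ₀ (f z) = 0
      rw [hψ₀]
      show Ideal.Quotient.mk Ng (Ideal.Quotient.mk T z) = 0
      rw [show Ideal.Quotient.mk T z = 0 from Ideal.Quotient.eq_zero_iff_mem.mpr (hM hz), map_zero]⟩
  have hex : ∀ b, ∃ z : P, f z = b ∧ Ideal.Quotient.mk T z = s b := fun b => by
    obtain ⟨z, rfl⟩ := hf b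
    have h1 : Ideal.Quotient.mk Ng (s (f z)) = Ideal.Quotient.mk Ng (Ideal.Quotient.mk T z) :=
      (AlgHom.congr_fun hs (f z)).trans (hψ₀ z)
    rw [Ideal.Quotient.eq, Ideal.mem_map_iff_of_surjective _ Ideal.Quotient.mk_surjective] at h1
    obtain ⟨y, hy, hyz⟩ := h1
    refine ⟨z + y, ?_, by rw [map_add, hyz, add_sub_cancel]⟩
    rw [map_add, show f y = 0 from hy, add_zero]
  choose z hz1 hz2 using hex
  have huniq : ∀ b (w : P), f w = b → Ideal.Quotient.mk T w = s b → w = z b := fun b w h1 h2 =>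
    sub_eq_zero.mp (hT _ (Ideal.Quotient.eq.mp (h2.trans (hz2 b).symm)) (by rw [map_sub, h1, hz1, sub_self]))
  refine ⟨{ toFun := z
            map_one' := (huniq 1 1 (map_one _) ((map_one _).trans (map_one s).symm)).symm
            map_mul' := fun b c => (huniq _ _ (by rw [map_mul, hz1, hz1]) (by rw [map_mul, hz2, hz2, map_mul])).symm
            map_zero' := (huniq 0 0 (map_zero _) ((map_zero _).trans (map_zero s).symm)).symm
            map_add' := fun b c => (huniq _ _ (by rw [map_add, hz1, hz1]) (by rw [map_add, hz2, hz2, map_add])).symm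
            commutes' := fun a => (huniq _ _ (AlgHom.commutes f a) (s.commutes a).symm).symm }, hz1⟩

/-- The case of a kernel killed by the maximal ideal of the base. -/
theorem exists_lift_killed
    (hlift : ∀ (G : Type u) [CommRing G] [Algebra A G], (∀ a ∈ maximalIdeal A, algebraMap A G a = 0) →
      ∀ N : Ideal G, N ^ 2 = ⊥ → ∀ ψ : B →ₐ[A] G ⧸ N, (∃ n : ℕ, ∀ x ∈ maximalIdeal B ^ n, ψ x = 0) →
        ∃ χ : B →ₐ[A] G, (Ideal.Quotient.mkₐ A N).comp χ = ψ)
    {E : Type u} [CommRing E] [Algebra A E] (N : Ideal E) (hN : N ^ 2 = ⊥)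
    (hmN : ∀ a ∈ maximalIdeal A, ∀ x ∈ N, algebraMap A E a * x = 0)
    (ψ : B →ₐ[A] E ⧸ N) {n : ℕ} (hn : ∀ x ∈ maximalIdeal B ^ n, ψ x = 0) :
    ∃ χ : B →ₐ[A] E, (Ideal.Quotient.mkₐ A N).comp χ = ψ := by
  let E' : Subalgebra A (B × E) :=
    AlgHom.equalizer (ψ.comp (AlgHom.fst A B E)) ((Ideal.Quotient.mkₐ A N).comp (AlgHom.snd A B E))
  have hmem : ∀ z : B × E, z ∈ E' ↔ ψ z.1 = Ideal.Quotient.mk N z.2 := fun z => Iff.rfl
  let fstE : E' →ₐ[A] B := (AlgHom.fst A B E).comp E'.val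
  have hfst : Function.Surjective fstE := fun b => by
    obtain ⟨e, he⟩ := Ideal.Quotient.mk_surjective (ψ b)
    exact ⟨⟨(b, e), (hmem _).mpr he.symm⟩, rfl⟩
  have hsnd : ∀ z : E', fstE z = 0 → (z : B × E).2 ∈ N := fun z hz => by
    have h1 := (hmem _).mp z.2
    rwa [show (z : B × E).1 = 0 from hz, map_zero, eq_comm, Ideal.Quotient.eq_zero_iff_mem] at h1
  have hNN : ∀ x ∈ N, ∀ y ∈ N, x * y = 0 := fun x hx y hy =>
    (Submodule.mem_bot E).mp (hN.le (by rw [pow_two]; exact Ideal.mul_mem_mul hx hy))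
  obtain ⟨M, hkey⟩ := exists_power N hNN hmN ψ hn E' hmem fstE (fun _ => rfl) hfst
  obtain ⟨χ, hχ⟩ := exists_section hlift fstE hfst _
    (fun a ha => Ideal.mem_sup_left (Ideal.mem_map_of_mem (algebraMap A E') ha))
    (fun x y hx hy => by
      have : x * y = 0 := Subtype.ext (Prod.ext (show (x : B × E).1 * (y : B × E).1 = 0 by
        rw [show (x : B × E).1 = 0 from hx, zero_mul]) (hNN _ (hsnd x hx) _ (hsnd y hy)))
      rw [this]
      exact Ideal.zero_mem _)
    hkey (le_sup_right (a := (maximalIdeal A).map (algebraMap A E')))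
  refine ⟨((AlgHom.snd A B E).comp E'.val).comp χ, AlgHom.ext fun b => ?_⟩
  show Ideal.Quotient.mk N (χ b : B × E).2 = ψ b
  rw [← (hmem _).mp (χ b).2, show (χ b : B × E).1 = b from hχ b]

/-- A flat local map with formally smooth closed fibre is formally smooth for the adic topology. -/
theorem adicSmooth_of_flat [IsLocalRing ((maximalIdeal A).Fiber B)] [IsLocalHom (algebraMap A B)]
    (h : CAlgX.IsAdicFormallySmooth (maximalIdeal A).ResidueField ((maximalIdeal A).Fiber B)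
      (maximalIdeal ((maximalIdeal A).Fiber B))) :
    CAlgX.IsAdicFormallySmooth A B (maximalIdeal B) := by
  intro E _ _ N hN ψ ⟨n, hn⟩
  have hNN : ∀ x ∈ N, ∀ y ∈ N, x * y = 0 := fun x hx y hy =>
    (Submodule.mem_bot E).mp (hN.le (by rw [pow_two]; exact Ideal.mul_mem_mul hx hy))
  let mE := (maximalIdeal A).map (algebraMap A E)
  have hmE : mE ^ (2 * n) = ⊥ := by
    have hle : mE ^ n ≤ N := by
      rw [← Ideal.map_pow, Ideal.map_le_iff_le_comap]
      intro a ha
      rw [Ideal.mem_comap, ← Ideal.Quotient.eq_zero_iff_mem, Ideal.Quotient.mk_algebraMap, ← ψ.commutes]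
      refine hn _ (Ideal.pow_right_mono ?_ n (Ideal.map_pow (algebraMap A B) _ n ▸ Ideal.mem_map_of_mem _ ha))
      exact Ideal.map_le_iff_le_comap.mpr fun b hb => map_nonunit (algebraMap A B) b hb
    rw [mul_comm, pow_mul]
    exact le_bot_iff.mp ((Ideal.pow_right_mono hle 2).trans hN.le)
  -- successive lifts to `E ⧸ m^i N`
  have step : ∀ i, ∃ χ : B →ₐ[A] E ⧸ mE ^ i * N,
      ∀ b, Ideal.Quotient.factor (Ideal.mul_le_right : mE ^ i * N ≤ N) (χ b) = ψ b := by
    intro i
    induction i with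
    | zero =>
      have h0 : mE ^ 0 * N = N := by rw [pow_zero, Ideal.one_eq_top, Ideal.top_mul]
      refine ⟨(Ideal.Quotient.factorₐ A h0.ge).comp ψ, fun b => ?_⟩
      obtain ⟨e, he⟩ := Ideal.Quotient.mk_surjective (ψ b)
      rw [AlgHom.comp_apply, ← he]
      rfl
    | succ i ih =>
      obtain ⟨χ, hχ⟩ := ih
      let I := mE ^ (i + 1) * N
      let J := (mE ^ i * N).map (Ideal.Quotient.mk I)
      have hJ2 : J ^ 2 = ⊥ := by
        rw [← Ideal.map_pow, Ideal.map_eq_bot_iff_le_ker]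
        exact (Ideal.pow_right_mono Ideal.mul_le_right 2).trans (hN.le.trans bot_le)
      have hIle : I ≤ mE ^ i * N := Ideal.mul_mono_left (Ideal.pow_le_pow_right i.le_succ)
      let e := DoubleQuot.quotQuotEquivQuotOfLEₐ A hIle
      let χ' : B →ₐ[A] (E ⧸ I) ⧸ J := e.symm.toAlgHom.comp χ
      have hχ' : ∀ x ∈ maximalIdeal B ^ (2 * n), χ x = 0 := by
        intro x hx
        rw [two_mul, pow_add] at hx
        refine Submodule.mul_induction_on hx (fun a ha b hb => ?_) fun a b ha hb => by rw [map_add, ha, hb, add_zero]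
        obtain ⟨a', ha'⟩ := Ideal.Quotient.mk_surjective (χ a)
        obtain ⟨b', hb'⟩ := Ideal.Quotient.mk_surjective (χ b)
        have h1 := hχ a
        have h2 := hχ b
        rw [← ha', Ideal.Quotient.factor_mk, hn a ha, Ideal.Quotient.eq_zero_iff_mem] at h1
        rw [← hb', Ideal.Quotient.factor_mk, hn b hb, Ideal.Quotient.eq_zero_iff_mem] at h2
        rw [map_mul, ← ha', ← hb', ← map_mul, hNN _ h1 _ h2, map_zero]
      obtain ⟨ρ, hρ⟩ := exists_lift_killed (fun G _ _ hG N' hN' φ ⟨j, hj⟩ => exists_lift_of_fibre h G hG N' hN' φ hj)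
        J hJ2 (fun a ha x hx => by
          obtain ⟨y, hy, rfl⟩ := (Ideal.mem_map_iff_of_surjective _ Ideal.Quotient.mk_surjective).mp hx
          rw [show algebraMap A (E ⧸ I) a = Ideal.Quotient.mk I (algebraMap A E a) from rfl, ← map_mul,
            Ideal.Quotient.eq_zero_iff_mem]
          show algebraMap A E a * y ∈ mE ^ (i + 1) * N
          rw [pow_succ', mul_assoc]
          exact Ideal.mul_mem_mul (Ideal.mem_map_of_mem _ ha) hy) χ' (n := 2 * n) fun x hx => by
          show e.symm (χ x) = 0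
          rw [hχ' x hx, map_zero]
      refine ⟨ρ, fun b => ?_⟩
      obtain ⟨y, hy⟩ := Ideal.Quotient.mk_surjective (ρ b)
      have h3 : e (Ideal.Quotient.mk J (ρ b)) = χ b := by
        rw [show Ideal.Quotient.mk J (ρ b) = χ' b from AlgHom.congr_fun hρ b]
        exact e.apply_symm_apply _
      rw [← hy] at h3 ⊢
      rw [← hχ b, ← h3]
      rfl
  obtain ⟨χ, hχ⟩ := step (2 * n)
  have h0 : mE ^ (2 * n) * N = ⊥ := by rw [hmE, Ideal.bot_mul]
  let e := (Ideal.quotientEquivAlgOfEq A h0).trans (AlgEquiv.quotientBot A E)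
  refine ⟨e.toAlgHom.comp χ, AlgHom.ext fun b => ?_⟩
  obtain ⟨y, hy⟩ := Ideal.Quotient.mk_surjective (χ b)
  rw [← hχ b, AlgHom.comp_apply, AlgHom.comp_apply, ← hy]
  rfl

end Groth.Agent.AdicFlat
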