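import Groth.Agent.AdicFlat.TrivialResidue
import Groth.Agent.ResExt.Finite
import Groth.Agent.AdicLim.Noetherian
import Groth.Agent.S4695
import Groth.Agent.S9257

/-!
# Flat local maps with finite residue extension and geometrically regular closed fibre (EGA IV 7.5.1)
-/

universe u

open IsLocalRing TensorProduct Polynomial

namespace Groth.Agent.AdicFlat

/-- A ring is regular if, over a base ring, its localizations at all maximal ideals of the base are. -/
theorem isRegularRing_of_forall_maximal {B T : Type u} [CommRing B] [CommRing T] [Algebra B T] [IsNoetherianRing T]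
    (h : ∀ n : Ideal B, ∀ [n.IsMaximal], IsRegularRing (T ⊗[B] Localization.AtPrime n)) : IsRegularRing T := by
  refine { toIsNoetherian := inferInstance, isRegularLocalRing_localization := fun Q _ => ?_ }
  obtain ⟨n, hn, hQn⟩ := Ideal.exists_le_maximal (Q.comap (algebraMap B T)) (Ideal.IsPrime.comap _).ne_top
  let M := Algebra.algebraMapSubmonoid T n.primeCompl
  let Tn := T ⊗[B] Localization.AtPrime n
  have : IsLocalization M Tn := inferInstance
  have := h n
  have hd : Disjoint (M : Set T) Q := Set.disjoint_left.mpr fun z hz hzQ => by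
    obtain ⟨b, hb, rfl⟩ := hz
    exact hb (hQn hzQ)
  let Q' := Q.map (algebraMap T Tn)
  have : Q'.IsPrime := IsLocalization.isPrime_of_isPrime_disjoint M Tn Q inferInstance hd
  have hQ' : Q'.under T = Q := IsLocalization.under_map_of_isPrime_disjoint M Tn ‹Q.IsPrime› hd
  have hloc := IsLocalization.isLocalization_isLocalization_atPrime_isLocalization M (Localization.AtPrime Q') Q'
  have hloc' : IsLocalization Q.primeCompl (Localization.AtPrime Q') := by
    simpa [hQ', Ideal.under_def] using hloc
  have hr : IsRegularLocalRing (Localization.AtPrime Q') := inferInstance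
  let eQ := (IsLocalization.algEquiv Q.primeCompl (Localization.AtPrime Q') (Localization.AtPrime Q)).toRingEquiv
  exact @IsRegularLocalRing.of_ringEquiv (Localization.AtPrime Q') _ hr _ _ eQ

/-- Regular maps can be checked on the localizations at the maximal ideals of the target. -/
theorem isRegularHom_of_forall_maximal {A B : Type u} [CommRing A] [CommRing B] [Algebra A B]
    [IsNoetherianRing B]
    (h : ∀ n : Ideal B, ∀ [n.IsMaximal], CAlg.IsRegularHom A (Localization.AtPrime n)) :
    CAlg.IsRegularHom A B := by
  refine ⟨Module.flat_of_isLocalized_maximal B B (fun P _ => Localization.AtPrime P)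
    (fun P _ => Algebra.linearMap B (Localization.AtPrime P)) fun P hP => (h P).1, fun p _ => ?_⟩
  have hN : IsNoetherianRing (p.Fiber B) := by
    have := Algebra.EssFiniteType.isNoetherianRing B (B ⊗[A] p.ResidueField)
    exact isNoetherianRing_of_ringEquiv (B ⊗[A] p.ResidueField)
      (Algebra.TensorProduct.comm A B p.ResidueField).toRingEquiv
  refine ⟨hN, fun k' _ _ hk => ?_⟩
  let _ : Algebra A k' := ((algebraMap p.ResidueField k').comp (algebraMap A p.ResidueField)).toAlgebra
  have : IsScalarTower A p.ResidueField k' := .of_algebraMap_eq fun _ => rfl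
  let T := B ⊗[A] k'
  let eT : T ≃+* k' ⊗[p.ResidueField] p.Fiber B :=
    ((Algebra.TensorProduct.comm A B k').toRingEquiv).trans
      (Algebra.TensorProduct.cancelBaseChange A p.ResidueField k' k' B).symm.toRingEquiv
  have : IsNoetherianRing (k' ⊗[p.ResidueField] p.Fiber B) := FlatAscent.isNoetherianRing_fibre_tensor
  have : IsNoetherianRing T := isNoetherianRing_of_ringEquiv _ eT.symm
  have : IsRegularRing T := isRegularRing_of_forall_maximal (B := B) fun n _ => by
    have hn := (h n).2 p
    have := hn.2 k' hk
    let e : T ⊗[B] Localization.AtPrime n ≃+* k' ⊗[p.ResidueField] p.Fiber (Localization.AtPrime n) :=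
      ((Algebra.TensorProduct.comm B T (Localization.AtPrime n)).toRingEquiv.trans
        (Algebra.TensorProduct.cancelBaseChange A B (Localization.AtPrime n) (Localization.AtPrime n) k').toRingEquiv).trans
        ((Algebra.TensorProduct.comm A (Localization.AtPrime n) k').toRingEquiv.trans
          (Algebra.TensorProduct.cancelBaseChange A p.ResidueField k' k' (Localization.AtPrime n)).symm.toRingEquiv)
    exact @IsRegularRing.of_ringEquiv _ _ _ _ e.symm this
  exact IsRegularRing.of_ringEquiv eT

/-- A splitting field of a ring map: roots of split polynomials come from it. -/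
theorem mem_range_of_splits {K E : Type u} [Field K] [Field E] (θ : K →+* E) {f : K[X]} (hf : f.Splits)
    (hf0 : f ≠ 0) {y : E} (hy : (f.map θ).IsRoot y) : y ∈ Set.range θ := by
  rw [IsRoot.def, hf.eq_prod_roots, Polynomial.map_mul, map_C, Polynomial.map_multiset_prod, eval_mul, eval_C,
    eval_multiset_prod, mul_eq_zero] at hy
  rcases hy with h | h
  · exact absurd ((map_eq_zero θ).mp h) (leadingCoeff_ne_zero.mpr hf0)
  · rw [Multiset.prod_eq_zero_iff, Multiset.map_map, Multiset.map_map, Multiset.mem_map] at h
    obtain ⟨c, -, hc⟩ := h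
    simp only [Function.comp_apply, Polynomial.map_sub, map_X, map_C, eval_sub, eval_X, eval_C, sub_eq_zero] at hc
    exact ⟨c, hc.symm⟩

/-- The complete case. -/
theorem isRegularHom_of_complete {A B : Type u} [CommRing A] [IsLocalRing A] [IsNoetherianRing A]
    [IsAdicComplete (maximalIdeal A) A] [CommRing B] [IsLocalRing B] [IsNoetherianRing B]
    [Algebra A B] [IsLocalHom (algebraMap A B)] [Module.Flat A B]
    [Module.Finite (ResidueField A) (ResidueField B)]
    (h : ∀ (K : Type u) [Field K] [Algebra (ResidueField A) K] [Algebra A K]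
      [IsScalarTower A (ResidueField A) K], Module.Finite (ResidueField A) K → IsRegularRing (K ⊗[A] B)) :
    CAlg.IsRegularHom A B := by
  classical
  let k := ResidueField A
  let kB := ResidueField B
  let bas := Module.Free.chooseBasis k kB
  let f : k[X] := ∏ i, minpoly k (bas i)
  let K := f.SplittingField
  obtain ⟨R, _, _, hRloc, hRfin, hRfree, ρ, hρ, hker⟩ := ResExt.exists_finiteModel (A := A) (K := K)
  have : IsNoetherianRing R := IsNoetherianRing.of_finite A R
  have hmR : maximalIdeal R = (maximalIdeal A).map (algebraMap A R) := by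
    rw [← IsLocalRing.eq_maximalIdeal (RingHom.ker_isMaximal_of_surjective ρ.toRingHom hρ)]
    ext r
    exact hker r
  have : IsLocalHom (algebraMap A R) :=
    ((local_hom_TFAE (algebraMap A R)).out 2 0).mp hmR.ge
  have hRc : IsAdicComplete (maximalIdeal R) R := by
    rw [hmR]
    exact (IsAdicComplete.map_algebraMap_iff ..).2 (AdicLim.isAdicComplete_of_finite R)
  let B' := R ⊗[A] B
  have : Algebra.FiniteType A R := inferInstance
  have hN : IsNoetherianRing B' := by
    have := Algebra.EssFiniteType.isNoetherianRing B (B ⊗[A] R)
    exact isNoetherianRing_of_ringEquiv (B ⊗[A] R) (Algebra.TensorProduct.comm A B R).toRingEquiv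
  refine (S4695.result A B R (Or.inr inferInstance)).2 inferInstance
    (isRegularHom_of_forall_maximal fun n _ => ?_)
  let ιB : B →+* B' := (Algebra.TensorProduct.includeRight : B →ₐ[A] B').toRingHom
  have hint : ιB.IsIntegral := by
    letI := Algebra.TensorProduct.rightAlgebra (R := A) (A := R) (B := B)
    have : Module.Finite B B' := Module.Finite.equiv (Algebra.TensorProduct.commRight A B R).toLinearEquiv
    exact algebraMap_isIntegral_iff.mpr inferInstance
  have hnB : (n.comap ιB).IsMaximal := Ideal.isMaximal_comap_of_isIntegral_of_isMaximal' ιB hint n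
  have hnB' : n.comap ιB = maximalIdeal B := IsLocalRing.eq_maximalIdeal hnB
  have hnR : n.comap (algebraMap R B') = maximalIdeal R := by
    refine le_antisymm (le_maximalIdeal (Ideal.IsPrime.comap _).ne_top) ?_
    rw [hmR]
    refine Ideal.map_le_iff_le_comap.mpr fun a ha => ?_
    show algebraMap R B' (algebraMap A R a) ∈ n
    rw [← IsScalarTower.algebraMap_apply A R B', ← (Algebra.TensorProduct.includeRight : B →ₐ[A] B').commutes a]
    exact (hnB'.symm ▸ map_nonunit (algebraMap A B) a ha : algebraMap A B a ∈ n.comap ιB)
  let D := Localization.AtPrime n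
  have : IsNoetherianRing D := IsLocalization.isNoetherianRing n.primeCompl D inferInstance
  have : IsLocalHom (algebraMap R D) := ((local_hom_TFAE _).out 2 0).mp (by
    refine Ideal.map_le_iff_le_comap.mpr fun r hr => ?_
    show algebraMap R D r ∈ maximalIdeal D
    rw [IsScalarTower.algebraMap_apply R B' D]
    exact (IsLocalization.AtPrime.to_map_mem_maximal_iff D n _).mpr (hnR.symm ▸ hr : r ∈ n.comap (algebraMap R B')))
  have : Module.Flat R D := Module.Flat.trans R B' D
  -- trivial residue extension
  have hres : Function.Surjective ((residue D).comp (algebraMap R D)) := by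
    let E := ResidueField D
    let π : B' →+* E := (residue D).comp (algebraMap B' D)
    have hπ : Function.Surjective π := fun e => by
      let _ := Ideal.Quotient.field n
      obtain ⟨d, rfl⟩ := residue_surjective e
      obtain ⟨a, s, rfl⟩ := IsLocalization.exists_mk'_eq n.primeCompl d
      obtain ⟨t, ht⟩ := Ideal.Quotient.mk_surjective ((Ideal.Quotient.mk n s.1)⁻¹)
      refine ⟨a * t, ?_⟩
      have hst : s.1 * t - 1 ∈ n := by
        rw [← Ideal.Quotient.mk_eq_mk_iff_sub_mem, map_mul, ht, map_one,
          mul_inv_cancel₀ (fun h0 => s.2 (Ideal.Quotient.eq_zero_iff_mem.mp h0))]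
      have h1 : π (s.1 * t) = 1 := by
        rw [← map_one π, ← sub_eq_zero, ← map_sub]
        exact (residue_eq_zero_iff _).mpr ((IsLocalization.AtPrime.to_map_mem_maximal_iff D n _).mpr hst)
      have h2 : π a = π s.1 * residue D (IsLocalization.mk' D a s) := by
        show residue D (algebraMap B' D a) = residue D (algebraMap B' D s.1) * _
        rw [← map_mul, IsLocalization.mk'_spec']
      rw [map_mul, h2, mul_comm (π s.1), mul_assoc, ← map_mul, h1, mul_one]
    -- both residue fields map to `E`
    let πR : R →+* E := π.comp (algebraMap R B')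
    let θ : K →+* E := RingHom.liftOfSurjective ρ.toRingHom hρ ⟨πR, fun r hr => by
      have : r ∈ n.comap (algebraMap R B') := hnR ▸ hmR ▸ (hker r).mp hr
      exact (residue_eq_zero_iff _).mpr ((IsLocalization.AtPrime.to_map_mem_maximal_iff D n _).mpr this)⟩
    have hθ : ∀ r, θ (ρ r) = πR r := fun r =>
      RingHom.liftOfRightInverse_comp_apply ρ.toRingHom _ (Function.rightInverse_surjInv hρ) _ r
    let ψ : kB →+* E := RingHom.liftOfSurjective (residue B) residue_surjective ⟨π.comp ιB, fun b hb => by
      have : b ∈ n.comap ιB := hnB' ▸ (residue_eq_zero_iff b).mp hb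
      exact (residue_eq_zero_iff _).mpr ((IsLocalization.AtPrime.to_map_mem_maximal_iff D n _).mpr this)⟩
    have hψ : ∀ b, ψ (residue B b) = π (ιB b) := fun b =>
      RingHom.liftOfRightInverse_comp_apply (residue B) _ (Function.rightInverse_surjInv residue_surjective) _ b
    have hcomm : θ.comp (algebraMap k K) = ψ.comp (algebraMap k kB) := by
      refine RingHom.ext fun c => ?_
      obtain ⟨a, rfl⟩ := residue_surjective c
      show θ (algebraMap k K (residue A a)) = ψ (residue B (algebraMap A B a))
      rw [hψ, show algebraMap k K (residue A a) = ρ (algebraMap A R a) by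
        rw [ρ.commutes]; exact (ResExt.algebraMap_residue a).symm, hθ]
      show π (algebraMap R B' (algebraMap A R a)) = π (ιB (algebraMap A B a))
      rw [← IsScalarTower.algebraMap_apply A R B']
      exact congrArg π ((Algebra.TensorProduct.includeRight : B →ₐ[A] B').commutes a).symm
    have hkB : ∀ z : kB, ψ z ∈ θ.fieldRange := by
      have hb : ∀ i, ψ (bas i) ∈ θ.fieldRange := fun i => by
        have hsf : (f.map (algebraMap k K)).Splits := SplittingField.splits f
        have hne : f ≠ 0 := Finset.prod_ne_zero_iff.mpr fun j _ =>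
          minpoly.ne_zero (IsIntegral.of_finite k (bas j))
        have hroot : ((f.map (algebraMap k K)).map θ).IsRoot (ψ (bas i)) := by
          rw [IsRoot.def, Polynomial.map_map, hcomm, eval_map, ← hom_eval₂]
          have h0 : aeval (bas i) f = 0 := by
            rw [map_prod]
            exact Finset.prod_eq_zero (Finset.mem_univ i) (minpoly.aeval k _)
          rw [aeval_def] at h0
          rw [h0, map_zero]
        exact mem_range_of_splits θ hsf (Polynomial.map_ne_zero hne) hroot
      intro z
      rw [← bas.sum_repr z, map_sum]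
      refine sum_mem fun i _ => ?_
      rw [Algebra.smul_def, map_mul, show ψ (algebraMap k kB (bas.repr z i)) = θ (algebraMap k K (bas.repr z i))
        from (RingHom.congr_fun hcomm _).symm]
      exact mul_mem ⟨_, rfl⟩ (hb i)
    intro e
    obtain ⟨z, rfl⟩ := hπ e
    have : π z ∈ θ.fieldRange := by
      induction z using TensorProduct.induction_on with
      | zero => rw [map_zero]; exact zero_mem _
      | add x y hx hy => rw [map_add]; exact add_mem hx hy
      | tmul r b =>
        rw [show r ⊗ₜ[A] b = algebraMap R B' r * ιB b by simp [ιB, B'], map_mul]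
        refine mul_mem ⟨ρ r, hθ r⟩ ?_
        rw [← hψ]
        exact hkB _
    obtain ⟨c, hc⟩ := this
    obtain ⟨r, rfl⟩ := hρ c
    refine ⟨r, ?_⟩
    rw [← hc, hθ, RingHom.comp_apply, IsScalarTower.algebraMap_apply R B' D]
    rfl
  -- regular closed fibre
  have hreg : IsRegularLocalRing (D ⧸ (maximalIdeal R).map (algebraMap R D)) := by
    let I := (maximalIdeal R).map (algebraMap R B')
    let π : B' →ₐ[A] K ⊗[A] B := Algebra.TensorProduct.map ρ (AlgHom.id A B)
    have hπ : Function.Surjective π := Algebra.TensorProduct.map_surjective ρ (AlgHom.id A B) hρ Function.surjective_id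
    have hπker : RingHom.ker π = I := by
      rw [Algebra.TensorProduct.rTensor_ker ρ hρ,
        show RingHom.ker ρ = maximalIdeal R from IsLocalRing.eq_maximalIdeal (RingHom.ker_isMaximal_of_surjective ρ.toRingHom hρ)]
      rfl
    have hKreg : IsRegularRing (K ⊗[A] B) := h K inferInstance
    have hQ : IsRegularRing (B' ⧸ I) := IsRegularRing.of_ringEquiv
      ((Ideal.quotEquivOfEq hπker.symm).trans (RingHom.quotientKerEquivOfSurjective hπ)).symm
    have hI : I ≤ n := Ideal.map_le_iff_le_comap.mpr hnR.ge
    have e : (maximalIdeal R).map (algebraMap R D) = I.map (algebraMap B' D) := by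
      rw [Ideal.map_map, ← IsScalarTower.algebraMap_eq]
    rw [e]
    let n' := n.map (Ideal.Quotient.mk I)
    have : n'.IsPrime := Ideal.map_isPrime_of_surjective Ideal.Quotient.mk_surjective (Ideal.mk_ker.trans_le hI)
    have hM : n'.primeCompl = Algebra.algebraMapSubmonoid (B' ⧸ I) n.primeCompl := by
      ext z
      constructor
      · intro hz
        obtain ⟨z, rfl⟩ := Ideal.Quotient.mk_surjective z
        exact ⟨z, fun h => hz (Ideal.mem_map_of_mem _ h), rfl⟩
      · rintro ⟨z, hz, rfl⟩ hmem
        refine hz ?_
        obtain ⟨w, hw, hwz⟩ := (Ideal.mem_map_iff_of_surjective _ Ideal.Quotient.mk_surjective).mp hmem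
        have : w - z ∈ I := Ideal.Quotient.eq.mp hwz
        simpa using sub_mem hw (hI this)
    have : IsLocalization n'.primeCompl (D ⧸ I.map (algebraMap B' D)) := by rw [hM]; infer_instance
    have hr : IsRegularLocalRing (Localization.AtPrime n') := inferInstance
    exact @IsRegularLocalRing.of_ringEquiv (Localization.AtPrime n') _ hr _ _
      (IsLocalization.algEquiv n'.primeCompl (Localization.AtPrime n') (D ⧸ I.map (algebraMap B' D))).toRingEquiv
  exact isRegularHom_of_trivialResidue hres hreg

end Groth.Agent.AdicFlat
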