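import Groth.Agent.AdicFlat.Basic
import Groth.Agent.PP16Lib.GeomRegLocal
import Groth.Agent.S9259
import Groth.Prelude.Def_Found

/-!
# Regular homomorphisms and adic formal smoothness
-/

universe u

open IsLocalRing TensorProduct

namespace Groth.Agent.AdicFlat

/-- The closed fibre of a local map is a Noetherian local ring. -/
theorem fibre_isLocalRing {A B : Type u} [CommRing A] [IsLocalRing A] [CommRing B] [IsLocalRing B]
    [IsNoetherianRing B] [Algebra A B] [IsLocalHom (algebraMap A B)] :
    IsLocalRing ((maximalIdeal A).Fiber B) ∧ IsNoetherianRing ((maximalIdeal A).Fiber B) := by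
  let κ := (maximalIdeal A).ResidueField
  have hsurj : Function.Surjective (algebraMap A κ) := Ideal.algebraMap_residueField_surjective _
  let σ : κ →+* ResidueField B := RingHom.liftOfSurjective (algebraMap A κ) hsurj
    ⟨(residue B).comp (algebraMap A B), fun a ha => (residue_eq_zero_iff _).mpr
      (map_nonunit (algebraMap A B) a (Ideal.algebraMap_residueField_eq_zero.mp ha))⟩
  let _ : Algebra κ (ResidueField B) := σ.toAlgebra
  have : IsScalarTower A κ (ResidueField B) := IsScalarTower.of_algebraMap_eq fun a =>
    (RingHom.liftOfRightInverse_comp_apply (algebraMap A κ) _ (Function.rightInverse_surjInv hsurj)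
      ⟨(residue B).comp (algebraMap A B), fun a ha => (residue_eq_zero_iff _).mpr
        (map_nonunit (algebraMap A B) a (Ideal.algebraMap_residueField_eq_zero.mp ha))⟩ a).symm
  have : Nontrivial ((maximalIdeal A).Fiber B) :=
    (Algebra.TensorProduct.lift (Algebra.ofId κ (ResidueField B)) (IsScalarTower.toAlgHom A B (ResidueField B))
      (fun _ _ => Commute.all _ _)).toRingHom.domain_nontrivial
  let r : B →+* (maximalIdeal A).Fiber B := (Algebra.TensorProduct.includeRight : B →ₐ[A] κ ⊗[A] B).toRingHom
  have hr : Function.Surjective r := fun x => by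
    induction x using TensorProduct.induction_on with
    | zero => exact ⟨0, map_zero r⟩
    | add x y hx hy =>
      obtain ⟨a, rfl⟩ := hx
      obtain ⟨b, rfl⟩ := hy
      exact ⟨a + b, map_add r a b⟩
    | tmul c b =>
      obtain ⟨a, rfl⟩ := hsurj c
      refine ⟨a • b, ?_⟩
      show (1 : κ) ⊗ₜ[A] (a • b) = _
      rw [← TensorProduct.smul_tmul, ← Algebra.algebraMap_eq_smul_one]
  exact ⟨.of_surjective' r hr, isNoetherianRing_of_surjective B _ r hr⟩

/-- A flat local map with geometrically regular closed fibre is formally smooth for the adic topology. -/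
theorem adicSmooth_of_flat_geomRegular {A B : Type u} [CommRing A] [IsLocalRing A] [CommRing B] [IsLocalRing B]
    [IsNoetherianRing B] [Algebra A B] [IsLocalHom (algebraMap A B)] [Module.Flat A B]
    (h : CAlg.IsGeometricallyRegular (maximalIdeal A).ResidueField ((maximalIdeal A).Fiber B)) :
    CAlgX.IsAdicFormallySmooth A B (maximalIdeal B) := by
  obtain ⟨_, _⟩ := fibre_isLocalRing (A := A) (B := B)
  exact adicSmooth_of_flat (PP16Lib.isGeometricallyRegular_iff_adicSmooth.mp h)

/-- Localisations of a regular homomorphism are formally smooth for the adic topologies. -/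
theorem adicSmooth_localization_of_isRegularHom {R Λ : Type u} [CommRing R] [CommRing Λ] [Algebra R Λ]
    [IsNoetherianRing Λ] (h : CAlg.IsRegularHom R Λ) (q : Ideal Λ) [q.IsPrime] (r : Ideal R) [r.IsPrime]
    (hr : q.comap (algebraMap R Λ) = r)
    [Algebra (Localization.AtPrime r) (Localization.AtPrime q)]
    [IsScalarTower R (Localization.AtPrime r) (Localization.AtPrime q)] :
    CAlgX.IsAdicFormallySmooth (Localization.AtPrime r) (Localization.AtPrime q)
      (maximalIdeal (Localization.AtPrime q)) := by
  subst hr
  have halg : (inferInstance : Algebra (Localization.AtPrime (q.comap (algebraMap R Λ))) (Localization.AtPrime q)) =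
      (Localization.localRingHom (q.comap (algebraMap R Λ)) q (algebraMap R Λ) rfl).toAlgebra := by
    refine Algebra.algebra_ext _ _ fun x => RingHom.congr_fun (IsLocalization.ringHom_ext
      (q.comap (algebraMap R Λ)).primeCompl (RingHom.ext fun a => ?_)) x
    rw [RingHom.comp_apply, RingHom.comp_apply, ← IsScalarTower.algebraMap_apply,
      RingHom.algebraMap_toAlgebra, Localization.localRingHom_to_map,
      IsScalarTower.algebraMap_apply R Λ (Localization.AtPrime q)]
  have hloc := S9259.local_of_regular h q
  cases halg
  let _ := (Localization.localRingHom (q.comap (algebraMap R Λ)) q (algebraMap R Λ) rfl).toAlgebra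
  have : IsLocalHom (algebraMap (Localization.AtPrime (q.comap (algebraMap R Λ))) (Localization.AtPrime q)) :=
    Localization.isLocalHom_localRingHom _ _ _ _
  have := hloc.1
  have : IsNoetherianRing (Localization.AtPrime q) := IsLocalization.isNoetherianRing q.primeCompl _ inferInstance
  exact adicSmooth_of_flat_geomRegular (hloc.2 (maximalIdeal _)).2

/-- Formal smoothness passes along surjections of base rings. -/
theorem adicSmooth_of_surjective_base {L K S : Type u} [CommRing L] [CommRing K] [CommRing S] [Algebra L S]
    [Algebra K S] (σ : L →+* K) (hσ : Function.Surjective σ) (hc : ∀ l, algebraMap L S l = algebraMap K S (σ l))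
    (J : Ideal S) (h : CAlgX.IsAdicFormallySmooth L S J) : CAlgX.IsAdicFormallySmooth K S J := by
  intro E _ _ N hN ψ hψ
  let _ : Algebra L E := ((algebraMap K E).comp σ).toAlgebra
  let ψ' : S →ₐ[L] E ⧸ N :=
    { ψ.toRingHom with
      commutes' := fun l => by
        show ψ (algebraMap L S l) = _
        rw [hc, ψ.commutes]
        rfl }
  obtain ⟨χ, hχ⟩ := h E N hN ψ' hψ
  exact ⟨{ χ.toRingHom with
    commutes' := fun k => by
      obtain ⟨l, rfl⟩ := hσ k
      show χ (algebraMap K S (σ l)) = _
      rw [← hc, χ.commutes]
      rfl }, AlgHom.ext fun x => AlgHom.congr_fun hχ x⟩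

end Groth.Agent.AdicFlat
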