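import Groth.Agent.CTensorRed.PowerSeries
import Groth.Agent.S2704
import Groth.Agent.S9295
import Groth.Agent.GRing17.Complete
import Groth.Agent.Catenary.Complete
import Groth.Agent.S0547
import Groth.Agent.ComplDeriv.PowerSeries

/-!
# Flat maps with trivial residue extension and regular closed fibre over complete rings are regular
-/

universe u

open IsLocalRing MvPowerSeries

namespace Groth.Agent.AdicFlat

theorem ker_eq_bot_of_flat {T C : Type u} [CommRing T] [IsNoetherianRing T] [CommRing C]
    {A : Type u} [CommRing A] [Algebra A T] [Algebra A C] [Module.Flat A C] (φ : T →ₐ[A] C)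
    (hφ : Function.Surjective φ) (m : Ideal A) (hm : m.FG)
    (hjac : m.map (algebraMap A T) ≤ Ideal.jacobson ⊥)
    (hle : RingHom.ker φ ≤ m.map (algebraMap A T)) : RingHom.ker φ = ⊥ := by
  classical
  refine Submodule.eq_bot_of_le_smul_of_le_jacobson_bot (m.map (algebraMap A T)) _
    (IsNoetherian.noetherian _) (fun t ht => ?_) hjac
  obtain ⟨n, g, hg⟩ := Submodule.fg_iff_exists_fin_generating_family.mp hm
  have htm := hle ht
  rw [show m = Ideal.span (Set.range g) from hg.symm, Ideal.map_span, ← Set.range_comp,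
    Ideal.mem_span_range_iff_exists_fun] at htm
  obtain ⟨c, hc⟩ := htm
  have hrel : ∑ i, g i • φ (c i) = 0 := by
    rw [show (0 : C) = φ t from ht.symm, ← hc, map_sum]
    refine Finset.sum_congr rfl fun i _ => ?_
    rw [map_mul, Function.comp_apply, φ.commutes, Algebra.smul_def, mul_comm]
  obtain ⟨k, a, y, hy, ha⟩ := Module.Flat.isTrivialRelation_of_sum_smul_eq_zero (R := A) (M := C) hrel
  choose w hw using fun j => hφ (y j)
  have hmem : ∀ i, c i - ∑ j, a i j • w j ∈ RingHom.ker φ := fun i => by
    rw [RingHom.mem_ker, map_sub, map_sum, sub_eq_zero]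
    rw [show φ (c i) = ∑ j, a i j • y j from hy i]
    simp [hw]
  have he : t = ∑ i, algebraMap A T (g i) • (c i - ∑ j, a i j • w j) := by
    simp only [smul_eq_mul, mul_sub, Finset.sum_sub_distrib, Finset.mul_sum]
    rw [Finset.sum_comm, ← hc]
    simp only [Algebra.smul_def, ← mul_assoc, ← map_mul, ← Finset.sum_mul, ← map_sum, ha]
    simp [mul_comm]
  rw [he]
  refine Submodule.sum_mem _ fun i _ => Submodule.smul_mem_smul (Ideal.mem_map_of_mem _ ?_) (hmem i)
  rw [← hg]
  exact Submodule.subset_span ⟨i, rfl⟩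

/-- A complete Noetherian local ring `A`, a flat local `A`-algebra `D` with the residue field of `A` and
regular closed fibre: `A → D` is regular. -/
theorem isRegularHom_of_trivialResidue {A D : Type u} [CommRing A] [IsLocalRing A] [IsNoetherianRing A]
    [IsAdicComplete (maximalIdeal A) A] [CommRing D] [IsLocalRing D] [IsNoetherianRing D]
    [Algebra A D] [IsLocalHom (algebraMap A D)] [Module.Flat A D]
    (hres : Function.Surjective ((residue D).comp (algebraMap A D)))
    (hreg : IsRegularLocalRing (D ⧸ (maximalIdeal A).map (algebraMap A D))) :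
    CAlg.IsRegularHom A D := by
  classical
  let C := AdicCompletion (maximalIdeal D) D
  have := CohenStruct.isNoetherianRing_completion D
  let mC := maximalIdeal C
  have hmC : mC = (maximalIdeal D).map (algebraMap D C) := AdicCompletion.maximalIdeal_eq_map
  let J := (maximalIdeal A).map (algebraMap A D)
  -- regular system of parameters of the closed fibre
  let r := (maximalIdeal (D ⧸ J)).spanFinrank
  obtain ⟨g, hg⟩ : ∃ g : Fin r → D ⧸ J, Submodule.span (D ⧸ J) (Set.range g) = maximalIdeal (D ⧸ J) := by
    obtain ⟨S, hS1, hS2⟩ := (IsNoetherian.noetherian (maximalIdeal (D ⧸ J))).exists_span_finset_card_eq_spanFinrank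
    let e := Finset.equivFinOfCardEq hS1
    refine ⟨fun i => (e.symm i : D ⧸ J), ?_⟩
    refine Eq.trans (congrArg (Submodule.span (D ⧸ J)) ?_) hS2
    ext z
    exact ⟨fun ⟨i, hi⟩ => hi ▸ (e.symm i).2, fun hz => ⟨e ⟨z, hz⟩, by simp⟩⟩
  choose x hx using fun i => Ideal.Quotient.mk_surjective (I := J) (g i)
  have hJle : J ≤ maximalIdeal D := ((local_hom_TFAE _).out 0 2).mp ‹IsLocalHom (algebraMap A D)›
  have hxm : ∀ i, x i ∈ maximalIdeal D := fun i => by
    have : g i ∈ maximalIdeal (D ⧸ J) := hg ▸ Submodule.subset_span ⟨i, rfl⟩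
    rw [mem_maximalIdeal, mem_nonunits_iff] at this ⊢
    exact fun hu => this (hx i ▸ hu.map _)
  have hspan : maximalIdeal D ≤ J ⊔ Ideal.span (Set.range x) := by
    intro z hz
    have hzm : Ideal.Quotient.mk J z ∈ maximalIdeal (D ⧸ J) := by
      rw [mem_maximalIdeal, mem_nonunits_iff]
      intro hu
      have : IsLocalHom (Ideal.Quotient.mk J) := IsLocalHom.of_surjective _ Ideal.Quotient.mk_surjective
      exact hz (isUnit_of_map_unit _ _ hu)
    rw [← hg] at hzm
    have : Ideal.Quotient.mk J z ∈ (Ideal.span (Set.range x)).map (Ideal.Quotient.mk J) := by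
      rw [Ideal.map_span, ← Set.range_comp]
      convert hzm using 4
      exact funext hx
    rw [Ideal.mem_map_iff_of_surjective _ Ideal.Quotient.mk_surjective] at this
    obtain ⟨w, hw, hwz⟩ := this
    rw [Ideal.Quotient.eq] at hwz
    rw [show z = w - (w - z) by ring]
    exact sub_mem (Ideal.mem_sup_right hw) (Ideal.mem_sup_left hwz)
  -- evaluation map
  have hxC : ∀ i, algebraMap D C (x i) ∈ mC := fun i => hmC ▸ Ideal.mem_map_of_mem _ (hxm i)
  let T := MvPowerSeries (Fin r) A
  let φ₀ : T →+* C := CohenStruct.evalPS mC (algebraMap A C) (fun i => algebraMap D C (x i)) hxC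
  let φ : T →ₐ[A] C := { φ₀ with commutes' := fun c => CohenStruct.evalPS_C _ _ _ hxC c }
  have : IsNoetherianRing T := by
    exact inferInstance
  have := CTensorRed.isAdicComplete_maximalIdeal (B := A) (d := r)
  have hloc : ∀ t ∈ maximalIdeal T, φ t ∈ mC := fun t ht => by
    rw [CTensorRed.maximalIdeal_eq_sup] at ht
    obtain ⟨u, hu, v, hv, rfl⟩ := Submodule.mem_sup.mp ht
    rw [map_add]
    refine add_mem ?_ ?_
    · refine (Ideal.map_le_iff_le_comap.mpr fun c hc => ?_ : (maximalIdeal A).map (MvPowerSeries.C : A →+* T) ≤ mC.comap φ.toRingHom) hu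
      show φ (algebraMap A T c) ∈ mC
      rw [φ.commutes, IsScalarTower.algebraMap_apply A D C]
      exact hmC ▸ Ideal.mem_map_of_mem _ (hJle (Ideal.mem_map_of_mem _ hc))
    · have h2 : φ₀ v ∈ Ideal.span (Set.range fun i => algebraMap D C (x i)) := by
        rw [← CohenStruct.map_span_X mC (algebraMap A C) _ hxC]
        exact Ideal.mem_map_of_mem _ hv
      exact Ideal.span_le.mpr (Set.range_subset_iff.mpr hxC) h2
  have hmT : mC ≤ (maximalIdeal T).map φ₀ := by
    rw [hmC]
    refine Ideal.map_le_iff_le_comap.mpr (hspan.trans (sup_le ?_ ?_))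
    · refine Ideal.map_le_iff_le_comap.mpr fun c hc => ?_
      show algebraMap D C (algebraMap A D c) ∈ (maximalIdeal T).map φ₀
      rw [← IsScalarTower.algebraMap_apply A D C, ← φ.commutes]
      refine Ideal.mem_map_of_mem _ ?_
      rw [CTensorRed.maximalIdeal_eq_sup]
      exact Ideal.mem_sup_left (Ideal.mem_map_of_mem _ hc)
    · refine Ideal.span_le.mpr (Set.range_subset_iff.mpr fun i => ?_)
      show algebraMap D C (x i) ∈ (maximalIdeal T).map φ₀
      rw [← CohenStruct.evalPS_X mC (algebraMap A C) (fun i => algebraMap D C (x i)) hxC i]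
      refine Ideal.mem_map_of_mem _ ?_
      rw [CTensorRed.maximalIdeal_eq_sup]
      exact Ideal.mem_sup_right (Ideal.subset_span ⟨i, rfl⟩)
  have hsurj : Function.Surjective φ := by
    let _ : Algebra T C := φ₀.toAlgebra
    have : IsHausdorff ((maximalIdeal T).map (algebraMap T C)) C :=
      IsHausdorff.of_isLocalRing _ _ (ne_top_of_le_ne_top (maximalIdeal.isMaximal C).ne_top
        (Ideal.map_le_iff_le_comap.mpr hloc))
    have : IsHausdorff (maximalIdeal T) C := IsHausdorff.map_algebraMap_iff.mp this
    refine surjective_of_mkQ_comp_surjective (I := maximalIdeal T) (f := Algebra.linearMap T C) fun y => ?_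
    obtain ⟨y, rfl⟩ := Submodule.mkQ_surjective _ y
    obtain ⟨d, hd⟩ := PP16Lib.exists_sub_mem_map_pow (maximalIdeal D) 1 y
    obtain ⟨c, hc⟩ := hres (residue D d)
    refine ⟨algebraMap A T c, ?_⟩
    rw [LinearMap.comp_apply, Submodule.mkQ_apply, Submodule.mkQ_apply, Submodule.Quotient.eq,
      Ideal.smul_top_eq_map, Submodule.restrictScalars_mem]
    refine hmT ?_
    show φ (algebraMap A T c) - y ∈ mC
    rw [φ.commutes, IsScalarTower.algebraMap_apply A D C,
      show algebraMap D C (algebraMap A D c) - y =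
        algebraMap D C (algebraMap A D c - d) + (algebraMap D C d - y) by rw [map_sub]; ring]
    refine add_mem (hmC ▸ Ideal.mem_map_of_mem _ ?_) ?_
    · rw [← residue_eq_zero_iff, map_sub, sub_eq_zero]
      exact hc
    · rw [hmC]
      rwa [pow_one] at hd
  -- the kernel lies in `m T`
  have hle : RingHom.ker φ ≤ (maximalIdeal A).map (algebraMap A T) := by
    let k := ResidueField A
    let π : T →+* MvPowerSeries (Fin r) k := MvPowerSeries.map (residue A)
    have hπ : Function.Surjective π := fun f => by
      choose c hc using fun e => residue_surjective (MvPowerSeries.coeff e f)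
      exact ⟨fun e => c e, MvPowerSeries.ext fun e => by rw [MvPowerSeries.coeff_map]; exact hc e⟩
    have hkerπ : RingHom.ker π = (maximalIdeal A).map (algebraMap A T) := by
      ext f
      rw [RingHom.mem_ker, show algebraMap A T = MvPowerSeries.C from rfl,
        CTensorRed.mem_map_C_iff (IsNoetherian.noetherian _)]
      exact ⟨fun h e => (residue_eq_zero_iff _).mp (by
          rw [← MvPowerSeries.coeff_map]; exact (congrArg _ h).trans (map_zero _)),
        fun h => MvPowerSeries.ext fun e => by
          rw [MvPowerSeries.coeff_map, map_zero]; exact (residue_eq_zero_iff _).mpr (h e)⟩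
    have : Nontrivial (D ⧸ J) := inferInstance
    obtain ⟨Φ⟩ := Catenary.exists_completion_quotient_equiv J
    let E := AdicCompletion (maximalIdeal (D ⧸ J)) (D ⧸ J)
    let δ : C →+* E := Φ.symm.toRingHom.comp (Ideal.Quotient.mk (J.map (algebraMap D C)))
    have hδ : Function.Surjective δ := Φ.symm.surjective.comp Ideal.Quotient.mk_surjective
    let ψ : MvPowerSeries (Fin r) k →+* E :=
      RingHom.liftOfSurjective π hπ ⟨δ.comp φ₀, fun f hf => by
        rw [hkerπ] at hf
        refine Ideal.map_le_iff_le_comap.mpr (fun c hc => ?_) hf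
        show Φ.symm (Ideal.Quotient.mk _ (φ (algebraMap A T c))) = 0
        rw [φ.commutes, IsScalarTower.algebraMap_apply A D C,
          Ideal.Quotient.eq_zero_iff_mem.mpr (Ideal.mem_map_of_mem _ (Ideal.mem_map_of_mem _ hc)), map_zero]⟩
    have hψπ : ∀ f, ψ (π f) = δ (φ f) := fun f =>
      RingHom.liftOfRightInverse_comp_apply π _ (Function.rightInverse_surjInv hπ) _ f
    have hψ : Function.Surjective ψ := fun e => by
      obtain ⟨c, rfl⟩ := hδ e
      obtain ⟨f, rfl⟩ := hsurj c
      exact ⟨π f, hψπ f⟩
    have hdim : ringKrullDim E = r := by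
      rw [show ringKrullDim E = ringKrullDim (D ⧸ J) from S0547.result (D ⧸ J)]
      exact hreg.spanFinrank_maximalIdeal.symm
    have hψker : RingHom.ker ψ = ⊥ := by
      by_contra hne
      obtain ⟨f, hf, hf0⟩ := Submodule.exists_mem_ne_zero_of_ne_bot hne
      have h1 : ringKrullDim (MvPowerSeries (Fin r) k ⧸ RingHom.ker ψ) = r := by
        rw [ringKrullDim_eq_of_ringEquiv (RingHom.quotientKerEquivOfSurjective hψ), hdim]
      have h2 := ringKrullDim_quotient_succ_le_of_nonZeroDivisor (mem_nonZeroDivisors_of_ne_zero hf0)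
      rw [ComplDeriv.ringKrullDim_powerSeries] at h2
      have h3 : ringKrullDim (MvPowerSeries (Fin r) k ⧸ RingHom.ker ψ) ≤
          ringKrullDim (MvPowerSeries (Fin r) k ⧸ Ideal.span {f}) :=
        ringKrullDim_le_of_surjective (Ideal.Quotient.factor ((Ideal.span_singleton_le_iff_mem _).mpr hf))
          (Ideal.Quotient.factor_surjective _)
      rw [h1] at h3
      have := (add_le_add h3 le_rfl).trans h2
      have : ((r + 1 : ℕ) : WithBot ℕ∞) ≤ (r : WithBot ℕ∞) := by exact_mod_cast this
      have := Nat.cast_le.mp this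
      omega
    intro f hf
    rw [← hkerπ, RingHom.mem_ker]
    have : π f ∈ RingHom.ker ψ := by rw [RingHom.mem_ker, hψπ, show φ f = 0 from hf, map_zero]
    rwa [hψker] at this
  have : Module.Flat A C := Module.Flat.trans A D C
  have hker : RingHom.ker φ = ⊥ := ker_eq_bot_of_flat φ hsurj (maximalIdeal A) (IsNoetherian.noetherian _)
    (by
      rw [jacobson_eq_maximalIdeal ⊥ bot_ne_top, CTensorRed.maximalIdeal_eq_sup]
      exact le_sup_left) hle
  let e : T ≃ₐ[A] C := AlgEquiv.ofBijective φ ⟨(RingHom.injective_iff_ker_eq_bot _).mpr hker, hsurj⟩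
  have hAC : CAlg.IsRegularHom A C :=
    FlatAscent.isRegularHom_congr e (S2704.result A GRing17.isGRing_of_complete r)
  have : Module.FaithfullyFlat D C := Module.FaithfullyFlat.of_flat_of_isLocalHom
  exact S9295.result A D C hAC PrimeSpectrum.comap_surjective_of_faithfullyFlat

end Groth.Agent.AdicFlat
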